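import Cfsg.Agent.Lib.CosetEnum.Fi22Cent.Defs

/-! Kernel checks for the centraliser of one of twenty-two commuting transpositions. -/

set_option autoImplicit false
set_option maxRecDepth 30000

namespace Cfsg.Lib.CosetEnum.Fi22Cent

open Fi22Two (clique moving basisIdx vec gens permWord perms idPerm comp coordWord cliqueWord act)

theorem invs_ok : invs.all invOK = true ∧ invs.length = 27 := by decide +kernel

theorem invCover_ok : invCover = true := by decide +kernel

theorem certs_ok : certs.all certOK = true := by decide +kernel

theorem red_ok : (List.range 27).all redOK = true := by decide +kernel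

theorem orbit_two : (perms.all fun h => Nat.beq (h.getD seventh 0) 6 || Nat.beq (h.getD seventh 0) 12) = true := by
  decide +kernel

theorem norm_ok : (List.range 3).all normOK = true := by decide +kernel

theorem grow_ok : ((List.range 6).all fun k =>
    Nat.blt 0 (orbits.getD k []).length && growOK (orbits.getD k []) (steps.getD k []) 1) = true := by
  decide +kernel

theorem orbits_cover : ((List.range 1024).all fun v => Nat.beq v 0 ||
    (List.range 6).any fun k => (orbits.getD k []).contains v) = true ∧
    orbits.getD 0 [] = [delta] ∧ (orbits.getD 1 []).length = 21 ∧ (orbits.getD 2 []).length = 560 ∧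
    (delta :: orbits.getD 1 []).Nodup ∧ ((delta :: orbits.getD 1 []).all fun v => Nat.blt v 1024) = true ∧
    ((orbits.getD 2 []).all fun v => Nat.blt v 1024) = true ∧ delta < 1024 ∧
    (delta :: orbits.getD 2 [] ++ orbits.getD 1 []).Nodup := by decide +kernel

theorem roots_ok : rootOK 3 (roots.getD 0 ([], 0, 0)) = true ∧ rootOK 4 (roots.getD 1 ([], 0, 0)) = true ∧
    rootOK 5 (roots.getD 2 ([], 0, 0)) = true := by decide +kernel

theorem refute_two : ((delta :: orbits.getD 2 []).contains refute.1 &&
    !(Nat.beq (sumCount (delta :: orbits.getD 2 []) delta)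
      (sumCount (delta :: orbits.getD 2 []) refute.1))) = true := by
  decide +kernel

theorem refute_both : ((delta :: orbits.getD 2 [] ++ orbits.getD 1 []).contains refute.2 &&
    !(Nat.beq (sumCount (delta :: orbits.getD 2 [] ++ orbits.getD 1 []) delta)
      (sumCount (delta :: orbits.getD 2 [] ++ orbits.getD 1 []) refute.2))) = true := by
  decide +kernel

end Cfsg.Lib.CosetEnum.Fi22Cent
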