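import Cfsg.Agent.Lib.CosetEnum.Trans.DefsSame
import Cfsg.Agent.Lib.CosetEnum.Fi22Two.Defs
import Cfsg.Agent.Lib.CosetEnum.Fi22Two.Checks
import Cfsg.Agent.Lib.CosetEnum.Fi22Cent.Data

/-! Checks for the centraliser of one of twenty-two commuting transpositions. -/

set_option autoImplicit false

namespace Cfsg.Lib.CosetEnum.Fi22Cent

open Fi22Two (clique moving basisIdx vec gens permWord perms idPerm comp coordWord cliqueWord act)
open Fi22U62 (tabP)
open Fi22Out (pts)

/-- The word of a permutation of the Sylow subgroup. -/
def permW (i : Nat) : List Nat := prodWord gens (permWord.getD i [])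

/-- The clique index of the transposition. -/
def seventh : Nat := 6

/-- The coordinates of the seventh transposition. -/
def delta : Nat := vec.getD seventh 0

/-- An involution with its square. -/
noncomputable def invOK (e : Nat × Nat) : Bool :=
  Nat.blt e.1 128 && Nat.blt e.2 1024 &&
    sameOK tabP 9 pts (permW e.1 ++ permW e.1) (coordWord moving basisIdx 10 e.2)

/-- Every involutive permutation fixing the seventh point is listed. -/
def invCover : Bool :=
  (List.range 128).all fun i => (perms.getD i [] == idPerm) || !(Nat.beq ((perms.getD i []).getD seventh 0) seventh) ||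
    !(comp (perms.getD i []) (perms.getD i []) == idPerm) || (invs.map Prod.fst).contains i

/-- The points of a certificate commute with one another and with the seventh point. -/
noncomputable def certPts (ws : List (List Nat)) : Bool :=
  (ws.all fun u => u.all fun g => Nat.blt g 9) &&
    ((moving.getD seventh [] :: ws).all fun u => (moving.getD seventh [] :: ws).all fun w =>
      Nat.beq (twalk tabP 9 (conjWord u) (twalk tabP 9 w (pts.getD 0 0))) (twalk tabP 9 w (pts.getD 0 0)))

/-- A representative is a product of commuting transpositions. -/
noncomputable def certOK (c : Nat × Nat × List (List Nat)) : Bool :=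
  certPts c.2.2 && sameOK tabP 9 pts (permW ((invs.getD c.1 (0, 0)).1) ++ coordWord moving basisIdx 10 c.2.1)
    (c.2.2.flatMap conjWord)

/-- All solutions over an involution are reduced to representatives. -/
noncomputable def redOK (k : Nat) : Bool :=
  force ((invs.getD k (0, 0)).2) fun s => (List.range 1024).all fun v =>
    !(Nat.beq (Nat.xor v (Nat.xor (act basisIdx vec (perms.getD (invs.getD k (0, 0)).1 []) 10 v) s)) 0) ||
      (red.getD k []).any fun e => Nat.beq e.1 v && Nat.blt e.2.1 certs.length && Nat.blt e.2.2 1024 &&
        Nat.beq (certs.getD e.2.1 (0, 0, [])).1 k &&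
        Nat.beq (Nat.xor (Nat.xor e.2.2 v) (act basisIdx vec (perms.getD (invs.getD k (0, 0)).1 []) 10 e.2.2))
          (certs.getD e.2.1 (0, 0, [])).2.1

/-- A normalising word. -/
noncomputable def normOK (g : Nat) : Bool :=
  Fi22Two.permOK tabP 9 clique (normWords.getD g []) (normPerms.getD g []) &&
    Nat.beq ((normPerms.getD g []).getD seventh 0) seventh

/-- An orbit grows by images of earlier members. -/
noncomputable def growOK (L : List Nat) : List (Nat × Nat) → Nat → Bool
  | [], j => Nat.beq j L.length
  | e :: st, j => Nat.blt e.1 j && Nat.blt e.2 3 &&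
      Nat.beq (L.getD j 0) (act basisIdx vec (normPerms.getD e.2 []) 10 (L.getD e.1 0)) && growOK L st (j + 1)

/-- A square root in the centraliser. -/
noncomputable def rootOK (k : Nat) (e : List Nat × Nat × Nat) : Bool :=
  (e.1.all fun g => Nat.blt g 9) && Nat.blt e.2.1 1024 &&
    sameOK tabP 9 pts (e.1 ++ e.1) (coordWord moving basisIdx 10 e.2.1) &&
    Nat.beq ((orbits.getD k []).getD e.2.2 0) e.2.1 && Nat.blt e.2.2 (orbits.getD k []).length &&
    Nat.beq (twalk tabP 9 e.1 (clique.getD seventh 0)) (clique.getD seventh 0)

/-- The number of members completed to a member by a given vector. -/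
def sumCount (O : List Nat) (y : Nat) : Nat := O.countP fun z => O.contains (Nat.xor y z)

end Cfsg.Lib.CosetEnum.Fi22Cent
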