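import Cfsg.Agent.Lib.CosetEnum.Fi22Cent.Checks
import Cfsg.Agent.Lib.CosetEnum.Fi22Two.Thompson

/-!
# A Sylow 2-subgroup of the centraliser of a transposition of Fi22 and its involutions
-/

set_option autoImplicit false
set_option linter.unusedSectionVars false
set_option maxRecDepth 20000

namespace Cfsg.Lib.CosetEnum.Fi22Cent

open Fi22Norm (Fi22Tab)
open Fi22Two (clique moving basisIdx vec gens permWord perms idPerm comp coordWord cliqueWord act gen ev base
  twoGroup PermBy P)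
open Fi22U62 (tabP)
open Fi22Out (pts)

variable {G : Type*} [Group G] [Finite G] {D : Set G} (T : Fi22Tab G D)

/-- The seventh transposition. -/
noncomputable def d6 : G := Fi22Two.gen T seventh

/-- Its centraliser. -/
noncomputable def cen : Subgroup G := Subgroup.centralizer ({d6 T} : Set G)

/-- A Sylow 2-subgroup of the centraliser. -/
noncomputable def inter : Subgroup G := twoGroup T ⊓ cen T

theorem seventh_lt : seventh < 22 := by decide

theorem mem_cen_iff (g : G) : g ∈ cen T ↔ T.A.f g (P seventh seventh_lt) = P seventh seventh_lt := by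
  rw [cen, d6, Subgroup.mem_centralizer_singleton_iff, ← Fi22Two.delta_P T seventh_lt]
  exact T.A.commute_delta_iff g _

theorem d6_mem : d6 T ∈ base T := Fi22Two.gen_mem T seventh_lt

theorem base_le_cen : base T ≤ cen T := fun _ hg =>
  Subgroup.mem_centralizer_singleton_iff.2 (Fi22Two.base_comm T hg (d6_mem T))

theorem base_le_inter : base T ≤ inter T := le_inf (Fi22Two.base_le T) (base_le_cen T)

theorem cen_index : (cen T).index = 3510 := by
  letI : MulAction G (Fin 3510) := MulAction.compHom (Fin 3510) T.A.f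
  have hst : MulAction.stabilizer G (P seventh seventh_lt) = cen T := by
    ext g
    rw [MulAction.mem_stabilizer_iff, mem_cen_iff]
    rfl
  have horb : MulAction.orbit G (P seventh seventh_lt) = Set.univ := by
    rw [Set.eq_univ_iff_forall]
    intro p
    obtain ⟨a, ha⟩ := T.A.trans p
    obtain ⟨b, hb⟩ := T.A.trans (P seventh seventh_lt)
    refine ⟨a * b⁻¹, ?_⟩
    show T.A.f (a * b⁻¹) _ = p
    rw [map_mul, map_inv, Equiv.Perm.mul_apply, ← hb, Equiv.Perm.inv_def, Equiv.symm_apply_apply, ha]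
  rw [← hst, MulAction.index_stabilizer, horb, Set.ncard_univ, Nat.card_fin]

theorem inter_isPGroup : IsPGroup 2 (inter T) :=
  (IsPGroup.of_card (Fi22Two.card_twoGroup T)).to_le inf_le_left

theorem card_inter_ge : 2 ^ 16 ≤ Nat.card (inter T) := by
  classical
  have hmem : ∀ g : twoGroup T, (T.A.f g.1 (P seventh seventh_lt)).1 ∈
      ({(P 6 (by norm_num)).1, (P 12 (by norm_num)).1} : Finset ℕ) := by
    intro g
    obtain ⟨h, hh, hp⟩ := Fi22Two.exists_perm T g.2
    obtain ⟨hj, e⟩ := hp seventh seventh_lt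
    rw [e]
    have := List.all_eq_true.1 orbit_two h hh
    rw [Bool.or_eq_true, Nat.beq_eq, Nat.beq_eq] at this
    rcases this with h6 | h12
    · rw [Fi22Two.P_congr h6 hj (by norm_num)]; simp
    · rw [Fi22Two.P_congr h12 hj (by norm_num)]; simp
  letI : MulAction (twoGroup T) (Fin 3510) :=
    MulAction.compHom (Fin 3510) (T.A.f.comp (twoGroup T).subtype)
  have hst : MulAction.stabilizer (twoGroup T) (P seventh seventh_lt) = (inter T).subgroupOf (twoGroup T) := by
    ext g
    rw [MulAction.mem_stabilizer_iff, Subgroup.mem_subgroupOf, inter, Subgroup.mem_inf, mem_cen_iff]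
    exact ⟨fun h => ⟨g.2, h⟩, fun h => h.2⟩
  have horb : (MulAction.orbit (twoGroup T) (P seventh seventh_lt)).ncard ≤ 2 := by
    refine le_trans (Set.ncard_le_ncard_of_injOn (t := (({(P 6 (by norm_num)).1,
      (P 12 (by norm_num)).1} : Finset ℕ) : Set ℕ)) Fin.val ?_ Fin.val_injective.injOn
      (Finset.finite_toSet _)) ?_
    · rintro _ ⟨g, rfl⟩
      exact hmem g
    · rw [Set.ncard_coe_finset]; exact Finset.card_le_two
  rw [← MulAction.index_stabilizer, hst] at horb
  have := Subgroup.card_mul_index ((inter T).subgroupOf (twoGroup T))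
  rw [Nat.card_congr (Subgroup.subgroupOfEquivOfLe (show inter T ≤ twoGroup T from inf_le_left)).toEquiv,
    Fi22Two.card_twoGroup] at this
  have h3 : Nat.card (inter T) * ((inter T).subgroupOf (twoGroup T)).index ≤ Nat.card (inter T) * 2 :=
    Nat.mul_le_mul le_rfl horb
  rw [this] at h3
  omega

/-- A 2-subgroup of the centraliser is conjugate into the Sylow subgroup. -/
theorem conj_into_inter {E : Subgroup G} (hE : IsPGroup 2 E) (hEC : E ≤ cen T) :
    ∃ c ∈ cen T, ∀ x ∈ E, c * x * c⁻¹ ∈ inter T := by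
  have : Fact (Nat.Prime 2) := ⟨Nat.prime_two⟩
  have hI : IsPGroup 2 ((inter T).subgroupOf (cen T)) :=
    (inter_isPGroup T).of_equiv (Subgroup.subgroupOfEquivOfLe inf_le_right).symm
  obtain ⟨Pi, hPi⟩ := hI.exists_le_sylow
  have hsyl : (Pi : Subgroup (cen T)) = (inter T).subgroupOf (cen T) := by
    refine (Subgroup.eq_of_le_of_card_ge hPi ?_).symm
    obtain ⟨k, hk⟩ := IsPGroup.iff_card.1 Pi.isPGroup'
    have h1 := Subgroup.card_subgroup_dvd_card (Pi : Subgroup (cen T))
    have h2 := Subgroup.card_mul_index (cen T)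
    rw [cen_index, T.card] at h2
    rw [hk] at h1
    have h3 : Nat.card (cen T) = 2 ^ 16 * 280665 := by
      norm_num at h2 ⊢
      omega
    rw [h3] at h1
    have h4 : k ≤ 16 := by
      by_contra hlt
      have h17 : 2 ^ 17 ∣ 2 ^ 16 * 280665 := (pow_dvd_pow 2 (by omega : 17 ≤ k)).trans h1
      norm_num at h17
    rw [Nat.card_congr (Subgroup.subgroupOfEquivOfLe (show inter T ≤ cen T from inf_le_right)).toEquiv, hk]
    exact le_trans (Nat.pow_le_pow_right (by norm_num) h4) (card_inter_ge T)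
  obtain ⟨Q, hQ⟩ := (hE.of_equiv (Subgroup.subgroupOfEquivOfLe hEC).symm).exists_le_sylow
  obtain ⟨c, hc⟩ := MulAction.exists_smul_eq (cen T) Q Pi
  refine ⟨c, c.2, fun x hx => ?_⟩
  have hxQ : (⟨x, hEC hx⟩ : cen T) ∈ (Q : Subgroup (cen T)) := hQ hx
  have h : c * ⟨x, hEC hx⟩ * c⁻¹ ∈ (Pi : Subgroup (cen T)) := by
    rw [← hc]
    exact ⟨_, hxQ, rfl⟩
  rw [hsyl] at h
  exact h

theorem ev_delta : d6 T = ev T 10 delta ∧ delta < 1024 :=
  ⟨(Fi22Two.ev_vec T seventh_lt).2, (Fi22Two.ev_vec T seventh_lt).1⟩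

/-- The elementary abelian subgroups of order 1024 of the centraliser are conjugate to the base. -/
theorem base_unique {E : Subgroup G} (hE : Cfsg.IsElementaryAbelian 2 E) (hEC : E ≤ cen T)
    (hcard : 1024 ≤ Nat.card E) : ∃ c ∈ cen T, E.map (MulAut.conj c).toMonoidHom = base T := by
  have hp : IsPGroup 2 E := fun x => ⟨1, Subtype.ext (by rw [pow_one]; exact hE.2 _ x.2)⟩
  obtain ⟨c, hc, hin⟩ := conj_into_inter T hp hEC
  refine ⟨c, hc, ?_⟩
  have hc2 : Nat.card (E.map (MulAut.conj c).toMonoidHom) = Nat.card E :=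
    Subgroup.card_map_of_injective (MulAut.conj c).injective
  have hle : E.map (MulAut.conj c).toMonoidHom ≤ twoGroup T := by
    rintro _ ⟨x, hx, rfl⟩
    exact (hin x hx).1
  by_contra hne
  have hnle : ¬ E.map (MulAut.conj c).toMonoidHom ≤ base T := fun h =>
    hne (Subgroup.eq_of_le_of_card_ge h (by rw [hc2, Fi22Two.card_base]; exact hcard))
  have := Fi22Two.small_of_ne T hle (Lib.Thompson.isEA_map _ hE) hnle
  omega

theorem thompson_inter : Cfsg.thompsonSubgroupOf 2 (inter T) = base T := by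
  have hle := base_le_inter T
  have hEA : Cfsg.IsElementaryAbelian 2 ((base T).subgroupOf (inter T)) :=
    Lib.Thompson.isEA_subgroupOf (Fi22Two.base_elementary T) _
  have hcard : Nat.card ((base T).subgroupOf (inter T)) = 1024 := by
    rw [Nat.card_congr (Subgroup.subgroupOfEquivOfLe hle).toEquiv, Fi22Two.card_base]
  have key : ∀ B : Subgroup (inter T), Cfsg.IsElementaryAbelian 2 B →
      B ≤ (base T).subgroupOf (inter T) ∨ Nat.card B < 1024 := by
    intro B hB
    by_cases h : B.map (inter T).subtype ≤ base T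
    · exact Or.inl fun x hx => h ⟨x, hx, rfl⟩
    · refine Or.inr ?_
      rw [← Subgroup.card_map_of_injective (inter T).subtype_injective]
      exact Fi22Two.small_of_ne T ((Subgroup.map_subtype_le _).trans inf_le_left) (Lib.Thompson.isEA_map _ hB) h
  have hset : Cfsg.maxElementaryAbelianSubgroups 2 (inter T) = {(base T).subgroupOf (inter T)} := by
    refine Set.eq_singleton_iff_unique_mem.2 ⟨⟨hEA, fun B hB => ?_⟩, fun B hB => ?_⟩
    · rcases key B hB with h | h
      · exact Subgroup.card_le_of_le h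
      · omega
    · have h1 := hB.2 _ hEA
      rcases key B hB.1 with h | h
      · exact Subgroup.eq_of_le_of_card_ge h h1
      · omega
  rw [Cfsg.thompsonSubgroupOf, Cfsg.thompsonSubgroup, hset, sSup_singleton,
    Subgroup.map_subgroupOf_eq_of_le hle]

theorem permW_spec {i : ℕ} (hi : i < 128) : PermBy T (wordVal T.A.x (permW i)) (perms.getD i []) := by
  have h := List.all_eq_true.1 Fi22Two.permWord_ok i (List.mem_range.2 hi)
  rw [Bool.and_eq_true] at h
  exact Fi22Two.permBy_of_check T h.2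

/-- An involution of the centraliser is conjugate in it to a member of the base. -/
theorem involution_into_base (hD : Cfsg.IsThreeTranspositionSet D) {t : G} (ht : t ∈ cen T) (ht2 : t * t = 1) :
    ∃ c ∈ cen T, c * t * c⁻¹ ∈ base T := by
  obtain ⟨c₁, hc₁, hin⟩ := conj_into_inter T (E := Subgroup.zpowers t)
    (fun x => ⟨1, Subtype.ext (by
      obtain ⟨m, hm⟩ := Subgroup.mem_zpowers_iff.1 x.2
      rw [pow_one, SubgroupClass.coe_pow, ← hm, ← zpow_natCast, ← zpow_mul, mul_comm, zpow_mul, zpow_natCast,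
        pow_two, ht2, one_zpow]
      rfl)⟩) (Subgroup.zpowers_le.2 ht)
  have hu := hin t (Subgroup.mem_zpowers t)
  set u := c₁ * t * c₁⁻¹
  have hu2 : u * u = 1 := by
    calc u * u = c₁ * (t * t) * c₁⁻¹ := by simp only [u]; group
      _ = 1 := by rw [ht2, mul_one, mul_inv_cancel]
  obtain ⟨h, hh, hp⟩ := Fi22Two.exists_perm T hu.1
  by_cases hid : h = idPerm
  · exact ⟨c₁, hc₁, Fi22Two.mem_base_of_permBy T (hid ▸ hp)⟩
  have hlen := Fi22Two.perms_len hh
  obtain ⟨i, hi, hget⟩ := List.mem_iff_getElem.1 hh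
  have hi' : i < 128 := Fi22Two.perms_ok.2 ▸ hi
  have hgd : perms.getD i [] = h := by rw [List.getD_eq_getElem _ _ hi, hget]
  have h6 : h.getD seventh 0 = seventh := by
    obtain ⟨hj, e⟩ := hp seventh seventh_lt
    exact Fi22Two.P_inj (e.symm.trans ((mem_cen_iff T u).1 hu.2))
  have hsq : comp h h = idPerm := by
    refine (hp.mul T hp).unique T ?_ (by simp [comp]) (by simp [idPerm])
    rw [hu2]
    exact Fi22Two.permBy_one T
  have hlist : i ∈ invs.map Prod.fst := by
    have := List.all_eq_true.1 invCover_ok i (List.mem_range.2 hi')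
    rw [hgd, hsq, h6, Nat.beq_refl] at this
    simpa [hid] using this
  obtain ⟨⟨i', s⟩, hmem, hi'e⟩ := List.mem_map.1 hlist
  simp only at hi'e
  subst hi'e
  obtain ⟨k, hk, hke⟩ := List.mem_iff_getElem.1 hmem
  have hkd : invs.getD k (0, 0) = (i', s) := by rw [List.getD_eq_getElem _ _ hk, hke]
  have hinv := List.all_eq_true.1 invs_ok.1 _ hmem
  simp only [invOK, Bool.and_eq_true, Nat.blt_eq, and_assoc] at hinv
  obtain ⟨-, hs, hsame⟩ := hinv
  set W := wordVal T.A.x (permW i') with hWdef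
  have hWp : PermBy T W h := hgd ▸ permW_spec T hi'
  have hWW : W * W = ev T 10 s := by
    rw [Fi22Two.ev_eq_word, ← T.eq_of_same hsame, wordVal_append]
  have hbase : u * W⁻¹ ∈ base T := by
    refine Fi22Two.mem_base_of_permBy T fun j hj => ⟨(Fi22Two.idPerm_getD hj).symm ▸ hj, ?_⟩
    refine (?_ : T.A.f (u * W⁻¹) (P j hj) = P j hj).trans (Fi22Two.P_congr (Fi22Two.idPerm_getD hj).symm _ _)
    have hjj : h.getD (h.getD j 0) 0 = j := by
      rw [← Fi22Two.comp_getD h h hj, hsq, Fi22Two.idPerm_getD hj]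
    obtain ⟨hq, -⟩ := hp j hj
    obtain ⟨hq1, e⟩ := hp _ hq
    obtain ⟨hq2, e'⟩ := hWp _ hq
    rw [map_mul, Equiv.Perm.mul_apply, map_inv]
    have e'' : T.A.f W (P _ hq) = P j hj := e'.trans (Fi22Two.P_congr hjj _ _)
    rw [show (T.A.f W)⁻¹ (P j hj) = P _ hq from by rw [Equiv.Perm.inv_def, Equiv.symm_apply_eq]; exact e''.symm]
    exact e.trans (Fi22Two.P_congr hjj _ _)
  obtain ⟨v, hv, hev⟩ := hbase
  have huv : u = ev T 10 v * W := by rw [hev, inv_mul_cancel_right]
  have hact : v ^^^ (Fi22Two.act basisIdx vec h 10 v ^^^ s) = 0 := by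
    have e1 : ev T 10 (v ^^^ (Fi22Two.act basisIdx vec h 10 v ^^^ s)) = 1 := by
      rw [Fi22Two.ev_xor T le_rfl, Fi22Two.ev_xor T le_rfl, ← Fi22Two.conj_ev T hWp le_rfl, ← hWW, ← hu2, huv]
      group
    by_contra hne
    exact Fi22Two.ev_ne_one T hne (Nat.xor_lt_two_pow (n := 10) hv
      (Nat.xor_lt_two_pow (n := 10) (Fi22Two.act_lt T hWp le_rfl v) hs)) e1
  have hred := List.all_eq_true.1 red_ok k (List.mem_range.2 (invs_ok.2 ▸ hk))
  rw [redOK, force_eq, hkd, hgd] at hred
  have hred' := List.all_eq_true.1 hred v (List.mem_range.2 hv)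
  rw [show Nat.xor v (Nat.xor (Fi22Two.act basisIdx vec h 10 v) s) = 0 from hact] at hred'
  simp only [Nat.beq_refl, Bool.not_true, Bool.false_or, List.any_eq_true, Bool.and_eq_true, Nat.beq_eq,
    Nat.blt_eq] at hred'
  obtain ⟨⟨v', j, w⟩, -, ⟨⟨⟨⟨hv', hj⟩, hw⟩, hck⟩, hr⟩⟩ := hred'
  simp only at hv' hj hw hck hr
  subst hv'
  obtain ⟨⟨k', r, ws⟩, hc⟩ : ∃ c, c = certs.getD j (0, 0, []) := ⟨_, rfl⟩
  rw [← hc] at hck hr
  simp only at hck hr
  subst hck
  have hcert := List.all_eq_true.1 certs_ok _ (show (k', r, ws) ∈ certs by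
    rw [hc, List.getD_eq_getElem _ _ hj]; exact List.getElem_mem _)
  simp only [certOK, hkd, certPts, Bool.and_eq_true] at hcert
  obtain ⟨⟨hlt, hcomm⟩, hprod⟩ := hcert
  simp only [List.all_eq_true, Nat.blt_eq] at hlt
  have hr' : w ^^^ v' ^^^ Fi22Two.act basisIdx vec h 10 w = r := hr
  -- the conjugate by a member of the base is the representative
  set t₂ := ev T 10 w * u * (ev T 10 w)⁻¹ with ht₂
  have ht₂e : t₂ = wordVal T.A.x (ws.flatMap conjWord) := by
    have hevinv : (ev T 10 w)⁻¹ = ev T 10 w := inv_eq_of_mul_eq_one_left (by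
      rw [← Fi22Two.ev_xor T le_rfl, Nat.xor_self, Fi22Two.ev_zero])
    rw [← T.eq_of_same hprod, wordVal_append, ← Fi22Two.ev_eq_word, ← hr', Fi22Two.ev_xor T le_rfl,
      Fi22Two.ev_xor T le_rfl, ← Fi22Two.conj_ev T hWp le_rfl, ht₂, huv, hevinv]
    simp only [← hWdef]
    group
  -- the commuting transpositions
  set S : Set G := {g | ∃ a ∈ moving.getD seventh [] :: ws, wordVal T.A.x (conjWord a) = g}
  have hlt' : ∀ a ∈ moving.getD seventh [] :: ws, ∀ g ∈ a, g < 9 := fun a ha => by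
    rcases List.mem_cons.1 ha with rfl | ha
    · exact (Fi22Two.clique_spec seventh_lt).1
    · exact hlt a ha
  have hpt : ∀ a ∈ moving.getD seventh [] :: ws, ∃ hp : twalk tabP 9 a (pts.getD 0 0) < 3510,
      T.A.delta ⟨_, hp⟩ = wordVal T.A.x (conjWord a) := fun a ha => by
    have hq : twalk tabP 9 a (pts.getD 0 0) < 3510 := by
      have := T.A.twalk_lt (fun g hg => T.hk.symm ▸ hlt' a ha g hg) (T.A.pts_lt (g := 0) (by rw [T.hk]; norm_num))
      rwa [T.hZ, T.hk, T.hp] at this
    exact ⟨hq, T.delta_moved (by simpa [List.all_eq_true] using hlt' a ha) rfl _⟩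
  have hScomm : ∀ x ∈ S, ∀ y ∈ S, Commute x y := by
    rintro _ ⟨a, ha, rfl⟩ _ ⟨b, hb, rfl⟩
    obtain ⟨hq, e⟩ := hpt b hb
    rw [← e]
    show _ * _ = _
    have hcw : ∀ g ∈ conjWord a, g < 9 := fun g hg => by
      simp only [conjWord, List.mem_append, List.mem_reverse, List.mem_singleton] at hg
      rcases hg with (hg | hg) | hg
      exacts [hlt' a ha g hg, hg ▸ by norm_num, hlt' a ha g hg]
    rw [T.A.commute_delta_iff, Fin.ext_iff, T.A.walk_apply (fun g hg => T.hk.symm ▸ hcw g hg), T.hZ, T.hk]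
    exact Nat.eq_of_beq_eq_true (List.all_eq_true.1 (List.all_eq_true.1 hcomm a ha) b hb)
  have hSD : ∀ x ∈ S, x ∈ D := by
    rintro _ ⟨a, ha, rfl⟩
    obtain ⟨hq, e⟩ := hpt a ha
    exact (Set.ext_iff.1 T.class_eq _).1 ((T.A.isConj_iff_exists _).2 ⟨_, e⟩)
  have hd6S : d6 T ∈ S := ⟨_, List.mem_cons_self, rfl⟩
  set E := Subgroup.closure S
  have hEA : Cfsg.IsElementaryAbelian 2 E := Lib.Thompson.isEA_closure hScomm
    fun x hx => by rw [← hD.1 x (hSD x hx), pow_orderOf_eq_one]
  have hEC : E ≤ cen T := (Subgroup.closure_le _).2 fun x hx =>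
    Subgroup.mem_centralizer_singleton_iff.2 (hScomm x hx _ hd6S).eq
  obtain ⟨c₂, hc₂, hin₂⟩ := conj_into_inter T (E := E)
    (fun x => ⟨1, Subtype.ext (by rw [pow_one]; exact hEA.2 _ x.2)⟩) hEC
  have hEbase : E ≤ (base T).comap (MulAut.conj c₂).toMonoidHom := (Subgroup.closure_le _).2 fun x hx => by
    show c₂ * x * c₂⁻¹ ∈ base T
    have hxD : c₂ * x * c₂⁻¹ ∈ D := (Set.ext_iff.1 T.class_eq _).1
      (IsConj.trans ((Set.ext_iff.1 T.class_eq x).2 (hSD x hx)) (isConj_iff.2 ⟨c₂, rfl⟩))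
    obtain ⟨i₂, hi₂, e⟩ := Fi22Two.mem_class_twoGroup T hD hxD (hin₂ x (Subgroup.subset_closure hx)).1
    rw [← e, Fi22Two.delta_P T hi₂]
    exact Fi22Two.gen_mem T hi₂
  have ht₂E : t₂ ∈ E := by
    rw [ht₂e]
    have : ∀ L : List (List ℕ), (∀ a ∈ L, a ∈ ws) → wordVal T.A.x (L.flatMap conjWord) ∈ E := by
      intro L
      induction L with
      | nil => intro _; exact one_mem _
      | cons a L ih =>
        intro hL
        rw [List.flatMap_cons, wordVal_append]
        exact mul_mem (ih fun b hb => hL b (by simp [hb]))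
          (Subgroup.subset_closure ⟨a, List.mem_cons_of_mem _ (hL a (by simp)), rfl⟩)
    exact this ws fun a h => h
  refine ⟨c₂ * ev T 10 w * c₁, mul_mem (mul_mem hc₂ (base_le_cen T ⟨w, hw, rfl⟩)) hc₁, ?_⟩
  have hfin : c₂ * t₂ * c₂⁻¹ ∈ base T := hEbase ht₂E
  have e : c₂ * ev T 10 w * c₁ * t * (c₂ * ev T 10 w * c₁)⁻¹ = c₂ * t₂ * c₂⁻¹ := by
    rw [ht₂, show u = c₁ * t * c₁⁻¹ from rfl]
    group
  rw [e]
  exact hfin

end Cfsg.Lib.CosetEnum.Fi22Cent
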