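import Cfsg.Agent.Lib.CosetEnum.Fi22Cent.Local

/-!
# Which members of the base behave like the central transposition

A class `Q` of involutions of the centraliser that contains its central transposition and a further involution,
contains no square and looks alike from each of its members in the base, has twenty-two members there.
-/

set_option autoImplicit false
set_option linter.unusedSectionVars false
set_option maxRecDepth 20000

namespace Cfsg.Lib.CosetEnum.Fi22Cent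

open Fi22Norm (Fi22Tab)
open Fi22Two (clique moving basisIdx vec coordWord gen ev base PermBy P)
open Fi22U62 (tabP)
open Fi22Out (pts)

variable {G : Type*} [Group G] [Finite G] {D : Set G} (T : Fi22Tab G D)

theorem norm_perm {g : ℕ} (hg : g < 3) :
    PermBy T (wordVal T.A.x (normWords.getD g [])) (normPerms.getD g []) ∧
      wordVal T.A.x (normWords.getD g []) ∈ cen T := by
  have h := List.all_eq_true.1 norm_ok g (List.mem_range.2 hg)
  rw [normOK, Bool.and_eq_true, Nat.beq_eq] at h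
  have hp := Fi22Two.permBy_of_check T h.1
  refine ⟨hp, (mem_cen_iff T _).2 ?_⟩
  obtain ⟨hj, e⟩ := hp seventh seventh_lt
  exact e.trans (Fi22Two.P_congr h.2 _ _)

theorem ev_mem (v : ℕ) : ev T 10 v ∈ base T := by
  have : ∀ k ≤ 10, ev T k v ∈ base T := by
    intro k hk
    induction k with
    | zero => exact one_mem _
    | succ k ih =>
      rw [ev]
      refine mul_mem (ih (by omega)) ?_
      split_ifs
      · exact Fi22Two.gen_mem T (Fi22Two.basis_spec (by omega)).1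
      · exact one_mem _
  exact this 10 le_rfl

variable (Q : G → Prop) (hconj : ∀ c ∈ cen T, ∀ x ∈ cen T, Q x → Q (c * x * c⁻¹))
include hconj

theorem iff_act {g : ℕ} (hg : g < 3) (v : ℕ) :
    Q (ev T 10 (Fi22Two.act basisIdx vec (normPerms.getD g []) 10 v)) ↔ Q (ev T 10 v) := by
  obtain ⟨hp, hc⟩ := norm_perm T hg
  set n := wordVal T.A.x (normWords.getD g [])
  rw [← Fi22Two.conj_ev T hp le_rfl]
  have hev : ev T 10 v ∈ cen T := base_le_cen T (ev_mem T v)
  refine ⟨fun h => ?_, hconj n hc _ hev⟩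
  have := hconj n⁻¹ (inv_mem hc) _ (mul_mem (mul_mem hc hev) (inv_mem hc)) h
  have e : n⁻¹ * (n * ev T 10 v * n⁻¹) * n⁻¹⁻¹ = ev T 10 v := by group
  rwa [e] at this

theorem orbit_const {k : ℕ} (hk : k < 6) {v : ℕ} (hv : v ∈ orbits.getD k []) :
    Q (ev T 10 v) ↔ Q (ev T 10 ((orbits.getD k []).getD 0 0)) := by
  have h := List.all_eq_true.1 grow_ok k (List.mem_range.2 hk)
  rw [Bool.and_eq_true] at h
  have key : ∀ (st : List (ℕ × ℕ)) (j : ℕ), growOK (orbits.getD k []) st j = true →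
      (∀ i < j, Q (ev T 10 ((orbits.getD k []).getD i 0)) ↔ Q (ev T 10 ((orbits.getD k []).getD 0 0))) →
      ∀ i < (orbits.getD k []).length,
        Q (ev T 10 ((orbits.getD k []).getD i 0)) ↔ Q (ev T 10 ((orbits.getD k []).getD 0 0)) := by
    intro st
    induction st with
    | nil =>
      intro j hj hprev
      rw [growOK, Nat.beq_eq] at hj
      exact hj ▸ hprev
    | cons e st ih =>
      intro j hj hprev
      rw [growOK] at hj
      simp only [Bool.and_eq_true, Nat.blt_eq, Nat.beq_eq, and_assoc] at hj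
      obtain ⟨he1, he2, heq, hrest⟩ := hj
      refine ih (j + 1) hrest fun i hi => ?_
      rcases Nat.lt_succ_iff_lt_or_eq.1 hi with hlt | rfl
      · exact hprev i hlt
      · rw [heq, iff_act T Q hconj he2]
        exact hprev _ he1
  obtain ⟨i, hi, rfl⟩ := List.mem_iff_getElem.1 hv
  rw [← List.getD_eq_getElem _ 0 hi]
  refine key _ 1 h.2 (fun j hj => ?_) i hi
  rw [show j = 0 by omega]

theorem root_not {k i : ℕ} (hk : k < 6) (h : rootOK k (roots.getD i ([], 0, 0)) = true)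
    (hsq : ∀ g ∈ cen T, ¬ Q (g * g)) {v : ℕ} (hv : v ∈ orbits.getD k []) : ¬ Q (ev T 10 v) := by
  obtain ⟨⟨w, z, p⟩, he⟩ : ∃ e, e = roots.getD i ([], 0, 0) := ⟨_, rfl⟩
  rw [← he] at h
  simp only [rootOK, Bool.and_eq_true, Nat.blt_eq, Nat.beq_eq, and_assoc] at h
  obtain ⟨hlt, -, hsame, hpos, hp, hfix⟩ := h
  simp only [List.all_eq_true, Nat.blt_eq] at hlt
  have hw : wordVal T.A.x w ∈ cen T := by
    rw [mem_cen_iff, Fin.ext_iff, T.A.walk_apply (fun g hg => T.hk.symm ▸ hlt g hg), T.hZ, T.hk]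
    exact hfix
  intro hq
  rw [orbit_const T Q hconj hk hv] at hq
  have hz : z ∈ orbits.getD k [] := by
    rw [← hpos, List.getD_eq_getElem _ _ hp]; exact List.getElem_mem _
  rw [← orbit_const T Q hconj hk hz, Fi22Two.ev_eq_word, ← T.eq_of_same hsame, wordVal_append] at hq
  exact hsq _ hw hq

set_option maxHeartbeats 800000 in
/-- The members of the class in the base are twenty-two. -/
theorem ncard_eq (hD : Cfsg.IsThreeTranspositionSet D)
    (hone : Q (d6 T)) (hsq : ∀ g ∈ cen T, ¬ Q (g * g)) (hinv : ∀ x ∈ cen T, Q x → x * x = 1)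
    (hother : ∃ x ∈ cen T, Q x ∧ x ≠ d6 T)
    (hlike : ∀ y ∈ base T, Q y → ∃ φ : base T ≃* base T,
      φ ⟨d6 T, d6_mem T⟩ = (y : G) ∧ ∀ z : base T, Q z ↔ Q (φ z)) :
    Set.ncard {x : G | x ∈ base T ∧ Q x} = 22 := by
  classical
  obtain ⟨hdel, hdlt⟩ := ev_delta T
  have hcov := orbits_cover
  obtain ⟨hall, h0, h1, h2, hnd, hlt1, hlt2, -, hnd3⟩ := hcov
  simp only [List.all_eq_true, Bool.or_eq_true, List.any_eq_true, List.mem_range, Nat.beq_eq, Nat.blt_eq,
    List.contains_eq_mem, decide_eq_true_eq] at hall hlt1 hlt2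
  set x₁ := (orbits.getD 1 []).getD 0 0
  set x₂ := (orbits.getD 2 []).getD 0 0
  -- the coordinates of the members
  have hmem : ∀ v < 1024, Q (ev T 10 v) ↔ (v = delta ∨ (v ∈ orbits.getD 1 [] ∧ Q (ev T 10 x₁)) ∨
      (v ∈ orbits.getD 2 [] ∧ Q (ev T 10 x₂))) := by
    intro v hv
    constructor
    · intro hq
      rcases hall v hv with hz | ⟨k, hk, hkv⟩
      · subst hz
        rw [Fi22Two.ev_zero] at hq
        exact absurd (by simpa using hq) (hsq 1 (one_mem _))
      interval_cases k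
      · rw [h0, List.mem_singleton] at hkv; exact Or.inl hkv
      · exact Or.inr (Or.inl ⟨hkv, (orbit_const T Q hconj (by norm_num) hkv).1 hq⟩)
      · exact Or.inr (Or.inr ⟨hkv, (orbit_const T Q hconj (by norm_num) hkv).1 hq⟩)
      · exact absurd hq (root_not T Q hconj (by norm_num) roots_ok.1 hsq hkv)
      · exact absurd hq (root_not T Q hconj (by norm_num) roots_ok.2.1 hsq hkv)
      · exact absurd hq (root_not T Q hconj (by norm_num) roots_ok.2.2 hsq hkv)
    · rintro (rfl | ⟨hv1, hq⟩ | ⟨hv2, hq⟩)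
      · rw [← hdel]; exact hone
      · exact (orbit_const T Q hconj (by norm_num) hv1).2 hq
      · exact (orbit_const T Q hconj (by norm_num) hv2).2 hq
  -- each member sees as many sums as the transposition
  have hcount : ∀ O : List ℕ, O.Nodup → (∀ v, v ∈ O ↔ v < 1024 ∧ Q (ev T 10 v)) →
      ∀ y ∈ O, sumCount O delta = sumCount O y := by
    intro O hO hOmem y hy
    obtain ⟨hylt, hyQ⟩ := (hOmem y).1 hy
    obtain ⟨φ, hφ, hφQ⟩ := hlike _ ⟨y, hylt, rfl⟩ hyQ
    have hσex : ∀ v : ℕ, ∃ u : ℕ, v < 1024 → u < 1024 ∧ ev T 10 u = ((φ ⟨ev T 10 v, ev_mem T v⟩ : base T) : G) :=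
      fun v => by
        obtain ⟨u, hu, he⟩ := (φ ⟨ev T 10 v, ev_mem T v⟩).2
        exact ⟨u, fun _ => ⟨hu, he⟩⟩
    choose σ hσ using hσex
    have hσQ : ∀ v < 1024, (v ∈ O ↔ σ v ∈ O) := fun v hv => by
      rw [hOmem, hOmem, (hσ v hv).2, ← hφQ]
      exact ⟨fun h => ⟨(hσ v hv).1, h.2⟩, fun h => ⟨hv, h.2⟩⟩
    have hσx : ∀ u < 1024, ∀ v < 1024, σ (u ^^^ v) = σ u ^^^ σ v := fun u hu v hv => by
      have huv : u ^^^ v < 1024 := Nat.xor_lt_two_pow (n := 10) hu hv
      refine Fi22Two.ev_inj T (hσ _ huv).1 (Nat.xor_lt_two_pow (n := 10) (hσ u hu).1 (hσ v hv).1) ?_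
      rw [(hσ _ huv).2, Fi22Two.ev_xor T le_rfl (σ u) (σ v), (hσ u hu).2, (hσ v hv).2, ← Subgroup.coe_mul, ← map_mul]
      exact congrArg (fun a => ((φ a : base T) : G)) (Subtype.ext (Fi22Two.ev_xor T le_rfl u v))
    have hσd : σ delta = y := by
      refine Fi22Two.ev_inj T (hσ _ hdlt).1 hylt ?_
      rw [(hσ _ hdlt).2, ← hφ]
      exact congrArg (fun a => ((φ a : base T) : G)) (Subtype.ext hdel.symm)
    have hσinj : ∀ u < 1024, ∀ v < 1024, σ u = σ v → u = v := fun u hu v hv h => by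
      have e : φ ⟨ev T 10 u, ev_mem T u⟩ = φ ⟨ev T 10 v, ev_mem T v⟩ :=
        Subtype.ext (by rw [← (hσ u hu).2, h, (hσ v hv).2])
      exact Fi22Two.ev_inj T hu hv (congrArg Subtype.val (φ.injective e))
    have hperm : (O.map σ).Perm O := by
      have hnd' : (O.map σ).Nodup := List.Nodup.map_on (fun a ha b hb h =>
        hσinj a ((hOmem a).1 ha).1 b ((hOmem b).1 hb).1 h) hO
      refine (hnd'.subperm (fun a ha => ?_)).perm_of_length_le (by rw [List.length_map])
      obtain ⟨b, hb, rfl⟩ := List.mem_map.1 ha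
      exact (hσQ b ((hOmem b).1 hb).1).1 hb
    show O.countP _ = O.countP _
    conv_rhs => rw [← hperm.countP_eq, List.countP_map]
    refine List.countP_congr fun z hz => ?_
    have hzlt := ((hOmem z).1 hz).1
    have hdz : delta ^^^ z < 1024 := Nat.xor_lt_two_pow (n := 10) hdlt hzlt
    simp only [Function.comp_apply, List.contains_eq_mem, decide_eq_true_eq]
    rw [show Nat.xor y (σ z) = σ (delta ^^^ z) by rw [hσx _ hdlt _ hzlt, hσd]; rfl]
    exact hσQ _ hdz
  have hset : ∀ O : List ℕ, O.Nodup → (∀ v, v ∈ O ↔ v < 1024 ∧ Q (ev T 10 v)) →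
      Set.ncard {x : G | x ∈ base T ∧ Q x} = O.length := by
    intro O hO hOmem
    rw [← List.toFinset_card_of_nodup hO, ← Set.ncard_coe_finset]
    refine (Set.ncard_congr (fun v _ => ev T 10 v) (fun v hv => ?_) (fun u v hu hv h => ?_) fun x hx => ?_).symm
    · rw [Finset.mem_coe, List.mem_toFinset] at hv
      exact ⟨ev_mem T v, ((hOmem v).1 hv).2⟩
    · rw [Finset.mem_coe, List.mem_toFinset] at hu hv
      exact Fi22Two.ev_inj T ((hOmem u).1 hu).1 ((hOmem v).1 hv).1 h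
    · obtain ⟨⟨v, hv, rfl⟩, hq⟩ := hx
      exact ⟨v, by rw [Finset.mem_coe, List.mem_toFinset]; exact (hOmem v).2 ⟨hv, hq⟩, rfl⟩
  have hr2 := refute_two
  have hr3 := refute_both
  simp only [Bool.and_eq_true, List.contains_eq_mem, decide_eq_true_eq] at hr2 hr3
  obtain ⟨O₁, hO₁⟩ : ∃ L, L = orbits.getD 1 [] := ⟨_, rfl⟩
  obtain ⟨O₂, hO₂⟩ : ∃ L, L = orbits.getD 2 [] := ⟨_, rfl⟩
  rw [← hO₁, ← hO₂] at hnd3 hr3
  rw [← hO₂] at hr2 hlt2 h2
  rw [← hO₁] at hnd hlt1 h1
  rw [← hO₁, ← hO₂] at hmem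
  have hl1 : ∀ v ∈ O₁, v < 1024 := fun v h => hlt1 v (List.mem_cons_of_mem _ h)
  by_cases hQ1 : Q (ev T 10 x₁) <;> by_cases hQ2 : Q (ev T 10 x₂)
  · exfalso
    have hO : ∀ v, v ∈ delta :: O₂ ++ O₁ ↔ v < 1024 ∧ Q (ev T 10 v) := by
      intro v
      rw [List.cons_append, List.mem_cons, List.mem_append]
      constructor
      · rintro (rfl | h | h)
        · exact ⟨hdlt, (hmem _ hdlt).2 (Or.inl rfl)⟩
        · exact ⟨hlt2 v h, (hmem _ (hlt2 v h)).2 (Or.inr (Or.inr ⟨h, hQ2⟩))⟩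
        · exact ⟨hl1 v h, (hmem _ (hl1 v h)).2 (Or.inr (Or.inl ⟨h, hQ1⟩))⟩
      · rintro ⟨hv, hq⟩
        rcases (hmem v hv).1 hq with h | ⟨h, -⟩ | ⟨h, -⟩
        exacts [Or.inl h, Or.inr (Or.inr h), Or.inr (Or.inl h)]
    rw [hcount _ hnd3 hO _ hr3.1, Nat.beq_refl] at hr3
    simp at hr3
  · have hO : ∀ v, v ∈ delta :: O₁ ↔ v < 1024 ∧ Q (ev T 10 v) := by
      intro v
      rw [List.mem_cons]
      constructor
      · rintro (rfl | h)
        · exact ⟨hdlt, (hmem _ hdlt).2 (Or.inl rfl)⟩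
        · exact ⟨hl1 v h, (hmem _ (hl1 v h)).2 (Or.inr (Or.inl ⟨h, hQ1⟩))⟩
      · rintro ⟨hv, hq⟩
        rcases (hmem v hv).1 hq with h | ⟨h, -⟩ | ⟨-, h⟩
        exacts [Or.inl h, Or.inr h, absurd h hQ2]
    rw [hset _ hnd hO, List.length_cons, h1]
  · exfalso
    have hO : ∀ v, v ∈ delta :: O₂ ↔ v < 1024 ∧ Q (ev T 10 v) := by
      intro v
      rw [List.mem_cons]
      constructor
      · rintro (rfl | h)
        · exact ⟨hdlt, (hmem _ hdlt).2 (Or.inl rfl)⟩
        · exact ⟨hlt2 v h, (hmem _ (hlt2 v h)).2 (Or.inr (Or.inr ⟨h, hQ2⟩))⟩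
      · rintro ⟨hv, hq⟩
        rcases (hmem v hv).1 hq with h | ⟨-, h⟩ | ⟨h, -⟩
        exacts [Or.inl h, absurd h hQ1, Or.inr h]
    rw [hcount _ (List.Nodup.sublist (List.sublist_append_left _ _) hnd3) hO _ hr2.1, Nat.beq_refl] at hr2
    simp at hr2
  · exfalso
    obtain ⟨x, hx, hxQ, hne⟩ := hother
    obtain ⟨c, hc, hcb⟩ := involution_into_base T hD hx (hinv x hx hxQ)
    obtain ⟨v, hv, hev⟩ := hcb
    have hq : Q (ev T 10 v) := hev ▸ hconj c hc x hx hxQ
    rcases (hmem v hv).1 hq with rfl | ⟨-, h⟩ | ⟨-, h⟩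
    · apply hne
      rw [← hdel] at hev
      have hcd : c⁻¹ * d6 T = d6 T * c⁻¹ := Subgroup.mem_centralizer_singleton_iff.1 (inv_mem hc)
      calc x = c⁻¹ * (c * x * c⁻¹) * c := by group
        _ = d6 T := by rw [← hev, hcd, mul_assoc, inv_mul_cancel, mul_one]
    · exact hQ1 h
    · exact hQ2 h

end Cfsg.Lib.CosetEnum.Fi22Cent
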