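import Cfsg.Agent.Lib.CosetEnum.Fi22Cent.Orbit
import Cfsg.Agent.Lib.Thompson.Transport

/-!
# A group with the centraliser of a transposition of Fi22 as the centraliser of an involution
-/

set_option autoImplicit false
set_option linter.unusedSectionVars false

namespace Cfsg.Lib.CosetEnum.Fi22Cent

open Fi22Norm (Fi22Tab)
open Fi22Two (base gen)

variable {H : Type*} [Group H] [Finite H] {D : Set H}

theorem d6_mem_class (T : Fi22Tab H D) : d6 T ∈ D := by
  rw [d6, ← Fi22Two.delta_P T seventh_lt]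
  exact (Set.ext_iff.1 T.class_eq _).1 ((T.A.isConj_iff_exists _).2 ⟨_, rfl⟩)

/-- The transposition of a table may be taken to be the seventh one. -/
theorem exists_seventh (T₀ : Fi22Tab H D) : ∃ T : Fi22Tab H D, d6 T = T₀.A.d := by
  obtain ⟨c, hc⟩ := isConj_iff.1 ((Set.ext_iff.1 T₀.class_eq _).2 (d6_mem_class T₀))
  refine ⟨T₀.conj c⁻¹, ?_⟩
  rw [d6, Fi22Two.gen_conj, show Fi22Two.gen T₀ seventh = c * T₀.A.d * c⁻¹ from hc.symm]
  group

theorem d6_mem_cen (T : Fi22Tab H D) : d6 T ∈ cen T := base_le_cen T (d6_mem T)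

variable {G : Type*} [Group G] [Finite G] (T : Fi22Tab H D) {d : G}

/-- The isomorphism may be taken to carry the Thompson subgroup to the base. -/
theorem exists_equiv_base (e : Subgroup.centralizer ({d} : Set G) ≃* cen T)
    (hdC : d ∈ Subgroup.centralizer ({d} : Set G)) (hed : ((e ⟨d, hdC⟩ : cen T) : H) = d6 T)
    (S : Sylow 2 (Subgroup.centralizer ({d} : Set G))) :
    ∃ e' : Subgroup.centralizer ({d} : Set G) ≃* cen T, ((e' ⟨d, hdC⟩ : cen T) : H) = d6 T ∧
      Cfsg.thompsonSubgroupOf 2 (S : Subgroup (Subgroup.centralizer ({d} : Set G))) =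
        ((base T).subgroupOf (cen T)).map e'.symm.toMonoidHom := by
  have : Fact (Nat.Prime 2) := ⟨Nat.prime_two⟩
  set S₀ : Subgroup (Subgroup.centralizer ({d} : Set G)) := (S : Subgroup (Subgroup.centralizer ({d} : Set G))) with hS₀
  let f := (cen T).subtype.comp e.toMonoidHom
  have hfinj : Function.Injective f := (cen T).subtype_injective.comp e.injective
  have hle : S₀.map f ≤ cen T := by
    rintro _ ⟨x, -, rfl⟩
    exact (e x).2
  obtain ⟨c, hc, hin⟩ := conj_into_inter T (E := S₀.map f) (S.isPGroup'.map f) hle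
  let γ : cen T ≃* cen T := MulAut.conj (⟨c, hc⟩ : cen T)
  refine ⟨e.trans γ, ?_, ?_⟩
  · show c * ((e ⟨d, hdC⟩ : cen T) : H) * c⁻¹ = d6 T
    rw [hed, Subgroup.mem_centralizer_singleton_iff.1 hc, mul_inv_cancel_right]
  let f' := (cen T).subtype.comp (e.trans γ).toMonoidHom
  have hf'inj : Function.Injective f' := (cen T).subtype_injective.comp (e.trans γ).injective
  have hle' : S₀.map f' ≤ inter T := by
    rintro _ ⟨x, hx, rfl⟩
    exact hin (f x) ⟨x, hx, rfl⟩
  have hge : Nat.card (inter T) ≤ Nat.card S₀ := by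
    let Q : Subgroup (Subgroup.centralizer ({d} : Set G)) :=
      ((inter T).subgroupOf (cen T)).map e.symm.toMonoidHom
    have hQp : IsPGroup 2 Q := ((inter_isPGroup T).of_equiv
      (Subgroup.subgroupOfEquivOfLe (show inter T ≤ cen T from inf_le_right)).symm).map _
    obtain ⟨R, hR⟩ := hQp.exists_le_sylow
    calc Nat.card (inter T) = Nat.card Q := by
          rw [Subgroup.card_map_of_injective (f := e.symm.toMonoidHom) e.symm.injective,
            Nat.card_congr (Subgroup.subgroupOfEquivOfLe (show inter T ≤ cen T from inf_le_right)).toEquiv]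
      _ ≤ Nat.card R := Subgroup.card_le_of_le hR
      _ = Nat.card S₀ := by rw [hS₀, Sylow.card_eq_multiplicity, Sylow.card_eq_multiplicity]
  have heq : S₀.map f' = inter T :=
    Subgroup.eq_of_le_of_card_ge hle' (by rw [Subgroup.card_map_of_injective hf'inj]; exact hge)
  have hJ : (Cfsg.thompsonSubgroupOf 2 S₀).map f' = base T := by
    rw [Lib.Thompson.map_thompsonSubgroupOf f' S₀ hf'inj.injOn, heq, thompson_inter]
  apply Subgroup.map_injective hf'inj
  rw [hJ, Subgroup.map_map]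
  have : f'.comp (e.trans γ).symm.toMonoidHom = (cen T).subtype := by
    ext x
    show (((e.trans γ) ((e.trans γ).symm x) : cen T) : H) = _
    rw [MulEquiv.apply_symm_apply]
    rfl
  rw [this, Subgroup.map_subgroupOf_eq_of_le (base_le_cen T)]

/-- The local conclusion: the Thompson subgroup holds twenty-two conjugates, permuted transitively by its
normaliser. -/
theorem main (hD : Cfsg.IsThreeTranspositionSet D) (hd : d * d = 1)
    (e₀ : Subgroup.centralizer ({d} : Set G) ≃* cen T) (hdC : d ∈ Subgroup.centralizer ({d} : Set G))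
    (hed : ((e₀ ⟨d, hdC⟩ : cen T) : H) = d6 T) (hsq : ¬ ∃ g : G, g ^ 2 = d)
    (hnwc : ∃ g : G, g * d * g⁻¹ ∈ Subgroup.centralizer ({d} : Set G) ∧ g * d * g⁻¹ ≠ d)
    (S : Sylow 2 (Subgroup.centralizer ({d} : Set G))) (A : Subgroup G)
    (hA : A = (Cfsg.thompsonSubgroupOf 2 (S : Subgroup (Subgroup.centralizer ({d} : Set G)))).map
      (Subgroup.centralizer ({d} : Set G)).subtype) :
    Cfsg.IsElementaryAbelian 2 A ∧ Nat.card A = 2 ^ 10 ∧ Set.ncard {x : G | x ∈ A ∧ IsConj d x} = 22 ∧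
      ∀ x ∈ A, ∀ y ∈ A, IsConj d x → IsConj d y →
        ∃ n ∈ Subgroup.normalizer (A : Set G), n * x * n⁻¹ = y := by
  obtain ⟨e, hed', hJ⟩ := exists_equiv_base T e₀ hdC hed S
  let g : cen T →* G := (Subgroup.centralizer ({d} : Set G)).subtype.comp e.symm.toMonoidHom
  have hginj : Function.Injective g := (Subgroup.centralizer ({d} : Set G)).subtype_injective.comp e.symm.injective
  have hgC : ∀ y, g y ∈ (Subgroup.centralizer ({d} : Set G)) := fun y => (e.symm y).2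
  have hAg : A = ((base T).subgroupOf (cen T)).map g := by rw [hA, hJ, Subgroup.map_map]
  have hgd : g ⟨d6 T, d6_mem_cen T⟩ = d := by
    show ((e.symm ⟨d6 T, d6_mem_cen T⟩ : (Subgroup.centralizer ({d} : Set G))) : G) = d
    rw [show (⟨d6 T, d6_mem_cen T⟩ : cen T) = e ⟨d, hdC⟩ from Subtype.ext hed'.symm, MulEquiv.symm_apply_apply]
  have hEA : Cfsg.IsElementaryAbelian 2 A := hAg ▸ Lib.Thompson.isEA_map g
    (Lib.Thompson.isEA_subgroupOf (Fi22Two.base_elementary T) _)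
  have hcard : Nat.card A = 1024 := by
    rw [hAg, Subgroup.card_map_of_injective hginj,
      Nat.card_congr (Subgroup.subgroupOfEquivOfLe (base_le_cen T)).toEquiv, Fi22Two.card_base]
  have hdA : d ∈ A := hAg ▸ ⟨⟨d6 T, d6_mem_cen T⟩, d6_mem T, hgd⟩
  -- elementary subgroups of that order in the centraliser are conjugate to `A`
  have huniq : ∀ E : Subgroup G, Cfsg.IsElementaryAbelian 2 E → E ≤ (Subgroup.centralizer ({d} : Set G)) → Nat.card E = 1024 →
      ∃ c ∈ (Subgroup.centralizer ({d} : Set G)), E.map (MulAut.conj c).toMonoidHom = A := by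
    intro E hE hEC hEcard
    let ψ := (cen T).subtype.comp e.toMonoidHom
    have hψ : Function.Injective ψ := (cen T).subtype_injective.comp e.injective
    obtain ⟨c, hc, hmap⟩ := base_unique T
      (E := (E.subgroupOf (Subgroup.centralizer ({d} : Set G))).map ψ) (Lib.Thompson.isEA_map ψ (Lib.Thompson.isEA_subgroupOf hE (Subgroup.centralizer ({d} : Set G))))
      (by rintro _ ⟨x, -, rfl⟩; exact (e x).2)
      (by rw [Subgroup.card_map_of_injective hψ,
        Nat.card_congr (Subgroup.subgroupOfEquivOfLe hEC).toEquiv, hEcard])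
    refine ⟨g ⟨c, hc⟩, hgC _, Subgroup.eq_of_le_of_card_ge ?_ ?_⟩
    · rintro _ ⟨x, hx, rfl⟩
      have hb : c * ψ ⟨x, hEC hx⟩ * c⁻¹ ∈ base T := by
        rw [← hmap]
        exact ⟨_, ⟨⟨x, hEC hx⟩, hx, rfl⟩, rfl⟩
      rw [hAg]
      refine ⟨⟨c, hc⟩ * e ⟨x, hEC hx⟩ * ⟨c, hc⟩⁻¹, hb, ?_⟩
      rw [map_mul, map_mul, map_inv]
      show _ * ((e.symm (e ⟨x, hEC hx⟩) : (Subgroup.centralizer ({d} : Set G))) : G) * _ = _
      rw [MulEquiv.symm_apply_apply]
      rfl
    · rw [Subgroup.card_map_of_injective (f := (MulAut.conj (g ⟨c, hc⟩)).toMonoidHom)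
        (MulAut.conj (g ⟨c, hc⟩)).injective, hEcard, hcard]
  -- every conjugate in `A` comes from `d` under the normaliser
  have hnorm : ∀ x ∈ A, IsConj d x → ∃ n ∈ Subgroup.normalizer (A : Set G), n * d * n⁻¹ = x := by
    intro x hx hdx
    obtain ⟨k, hk⟩ := isConj_iff.1 hdx
    have hEC : A.map (MulAut.conj k⁻¹).toMonoidHom ≤ (Subgroup.centralizer ({d} : Set G)) := by
      rintro _ ⟨a, ha, rfl⟩
      show k⁻¹ * a * k⁻¹⁻¹ ∈ (Subgroup.centralizer ({d} : Set G))
      have hax : a * x = x * a := (Lib.Thompson.isEA_commute hEA ha hx).eq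
      rw [Subgroup.mem_centralizer_singleton_iff, inv_inv, show d = k⁻¹ * x * k by rw [← hk]; group]
      calc k⁻¹ * a * k * (k⁻¹ * x * k) = k⁻¹ * (a * x) * k := by group
        _ = k⁻¹ * x * k * (k⁻¹ * a * k) := by rw [hax]; group
    obtain ⟨c, hc, hmap⟩ := huniq _ (Lib.Thompson.isEA_map _ hEA) hEC
      (by rw [Subgroup.card_map_of_injective (f := (MulAut.conj k⁻¹).toMonoidHom)
        (MulAut.conj k⁻¹).injective, hcard])
    refine ⟨(c * k⁻¹)⁻¹, inv_mem (Subgroup.mem_normalizer_iff.2 fun a => ?_), ?_⟩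
    · constructor
      · intro ha
        have : c * (k⁻¹ * a * k⁻¹⁻¹) * c⁻¹ ∈ A := by
          rw [← hmap]; exact ⟨_, ⟨a, ha, rfl⟩, rfl⟩
        rw [show c * k⁻¹ * a * (c * k⁻¹)⁻¹ = c * (k⁻¹ * a * k⁻¹⁻¹) * c⁻¹ by group]
        exact this
      · intro ha
        have : c * k⁻¹ * a * (c * k⁻¹)⁻¹ ∈ (A.map (MulAut.conj k⁻¹).toMonoidHom).map (MulAut.conj c).toMonoidHom :=
          hmap.symm ▸ ha
        obtain ⟨_, ⟨b, hb, rfl⟩, hbe⟩ := this
        have e1 : c * (k⁻¹ * b * k⁻¹⁻¹) * c⁻¹ = c * k⁻¹ * a * (c * k⁻¹)⁻¹ := hbe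
        have : b = a := by
          calc b = (c * k⁻¹)⁻¹ * (c * (k⁻¹ * b * k⁻¹⁻¹) * c⁻¹) * (c * k⁻¹) := by group
            _ = a := by rw [e1]; group
        rwa [← this]
    · have hcd : c⁻¹ * d = d * c⁻¹ := Subgroup.mem_centralizer_singleton_iff.1 (inv_mem hc)
      calc (c * k⁻¹)⁻¹ * d * (c * k⁻¹)⁻¹⁻¹ = k * (c⁻¹ * d) * (c * k⁻¹) := by group
        _ = k * d * k⁻¹ := by rw [hcd]; group
        _ = x := hk
  refine ⟨hEA, hcard.trans (by norm_num), ?_, fun x hx y hy hdx hdy => ?_⟩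
  rotate_left
  · obtain ⟨n, hn, rfl⟩ := hnorm x hx hdx
    obtain ⟨m, hm, rfl⟩ := hnorm y hy hdy
    exact ⟨m * n⁻¹, mul_mem hm (inv_mem hn), by group⟩
  -- count in the model
  let Q : H → Prop := fun y => ∃ h : y ∈ cen T, IsConj d (g ⟨y, h⟩)
  have hQiff : ∀ y (h : y ∈ cen T), Q y ↔ IsConj d (g ⟨y, h⟩) := fun y h => ⟨fun ⟨_, hc⟩ => hc, fun hc => ⟨h, hc⟩⟩
  let α : base T ≃* A := ((Subgroup.subgroupOfEquivOfLe (base_le_cen T)).symm.trans
    (((base T).subgroupOf (cen T)).equivMapOfInjective g hginj)).trans (MulEquiv.subgroupCongr hAg.symm)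
  have hα : ∀ z : base T, (α z : G) = g ⟨z, base_le_cen T z.2⟩ := fun z => rfl
  have hcount : Set.ncard {x : H | x ∈ base T ∧ Q x} = Set.ncard {x : G | x ∈ A ∧ IsConj d x} := by
    refine Set.ncard_congr (fun y hy => (α ⟨y, hy.1⟩ : G)) (fun y hy => ⟨(α _).2, ?_⟩)
      (fun y z hy hz h => congrArg Subtype.val (α.injective (Subtype.ext h))) fun x hx => ?_
    · rw [hα]; exact (hQiff y (base_le_cen T hy.1)).1 hy.2
    · refine ⟨α.symm ⟨x, hx.1⟩, ⟨(α.symm _).2, (hQiff _ (base_le_cen T (α.symm _).2)).2 ?_⟩, ?_⟩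
      · rw [← hα, MulEquiv.apply_symm_apply]; exact hx.2
      · show ((α (α.symm ⟨x, hx.1⟩) : A) : G) = x
        rw [MulEquiv.apply_symm_apply]
  rw [← hcount]
  refine ncard_eq T Q ?_ hD ?_ ?_ ?_ ?_ ?_
  · rintro c hc x hx ⟨h, hdx⟩
    refine (hQiff _ (mul_mem (mul_mem hc h) (inv_mem hc))).2 (hdx.trans ?_)
    exact isConj_iff.2 ⟨g ⟨c, hc⟩, by rw [← map_inv, ← map_mul, ← map_mul]; rfl⟩
  · exact (hQiff _ (d6_mem_cen T)).2 (hgd.symm ▸ IsConj.refl d)
  · rintro y hy ⟨h, hdy⟩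
    obtain ⟨k, hk⟩ := isConj_iff.1 hdy
    refine hsq ⟨k⁻¹ * g ⟨y, hy⟩ * k, ?_⟩
    have e1 : g ⟨y, hy⟩ * g ⟨y, hy⟩ = k * d * k⁻¹ := by rw [hk, ← map_mul]; rfl
    calc (k⁻¹ * g ⟨y, hy⟩ * k) ^ 2 = k⁻¹ * (g ⟨y, hy⟩ * g ⟨y, hy⟩) * k := by rw [pow_two]; group
      _ = d := by rw [e1]; group
  · rintro x hx ⟨h, hdx⟩
    obtain ⟨k, hk⟩ := isConj_iff.1 hdx
    have : g (⟨x, h⟩ * ⟨x, h⟩) = g 1 := by
      rw [map_mul, map_one, ← hk]
      calc k * d * k⁻¹ * (k * d * k⁻¹) = k * (d * d) * k⁻¹ := by group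
        _ = 1 := by rw [hd, mul_one, mul_inv_cancel]
    exact congrArg Subtype.val (hginj this)
  · obtain ⟨k, hkC, hne⟩ := hnwc
    refine ⟨e ⟨_, hkC⟩, (e ⟨_, hkC⟩).2, (hQiff _ (e ⟨_, hkC⟩).2).2 ?_, fun h => hne ?_⟩
    · show IsConj d ((e.symm (e ⟨_, hkC⟩) : (Subgroup.centralizer ({d} : Set G))) : G)
      rw [MulEquiv.symm_apply_apply]
      exact isConj_iff.2 ⟨k, rfl⟩
    · exact congrArg Subtype.val (e.injective (Subtype.ext (h.trans hed'.symm)))
  · intro y hy hQy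
    have hxA : (α ⟨y, hy⟩ : G) ∈ A := (α _).2
    obtain ⟨n, hn, hnd⟩ := hnorm _ hxA (by rw [hα]; exact (hQiff y (base_le_cen T hy)).1 hQy)
    have hmapn : A.map (MulAut.conj n).toMonoidHom = A := by
      refine Subgroup.eq_of_le_of_card_ge ?_ (le_of_eq (Subgroup.card_map_of_injective
        (f := (MulAut.conj n).toMonoidHom) (MulAut.conj n).injective).symm)
      rintro _ ⟨a, ha, rfl⟩
      exact (Subgroup.mem_normalizer_iff.1 hn a).1 ha
    let κ : A ≃* A := ((MulAut.conj n).subgroupMap A).trans (MulEquiv.subgroupCongr hmapn)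
    let φ : base T ≃* base T := (α.trans κ).trans α.symm
    have hφ : ∀ z : base T, (α (φ z) : G) = n * (α z : G) * n⁻¹ := fun z => by
      show ((α (α.symm (κ (α z))) : A) : G) = _
      rw [MulEquiv.apply_symm_apply]
      rfl
    refine ⟨φ, ?_, fun z => ?_⟩
    · have : α (φ ⟨d6 T, d6_mem T⟩) = α ⟨y, hy⟩ := Subtype.ext (by rw [hφ, hα, hgd, hnd])
      exact congrArg Subtype.val (α.injective this)
    · rw [hQiff _ (base_le_cen T z.2), hQiff _ (base_le_cen T (φ z).2), ← hα, ← hα, hφ]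
      exact ⟨fun h => h.trans (isConj_iff.2 ⟨n, rfl⟩), fun h => h.trans (isConj_iff.2 ⟨n, rfl⟩).symm⟩

end Cfsg.Lib.CosetEnum.Fi22Cent
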